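import Groth.Prelude.Def_W4c2invhilbsl2
import Groth.Prelude.Def_W4c2conddiscmodels
import Groth.Prelude.Def_W4c2invhilbsl2HJ
import Mathlib.Tactic

/-! Arithmetic of the Hirzebruch–Jung bookkeeping. -/

namespace Groth.Agent.InvHilb

open W4c2invhilbsl2

/-- `tᵢ`. -/
def tI (p q m : ℕ) (c : List ℤ) (i : ℕ) : ℤ :=
  (tT p q m : ℤ) * hjP c i - (bB p q m : ℤ) * hjQ c i

theorem tI_rec (p q m : ℕ) (c : List ℤ) (i : ℕ) :
    tI p q m c (i + 2) = c.getD i 0 * tI p q m c (i + 1) - tI p q m c i := by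
  unfold tI; rw [hjP, hjQ]; ring

theorem unimod (c : List ℤ) : ∀ i : ℕ, hjP c (i + 1) * hjQ c i - hjP c i * hjQ c (i + 1) = -1
  | 0 => by simp [hjP, hjQ]
  | i + 1 => by rw [hjP, hjQ]; linear_combination unimod c i

theorem hjP_pos_mono {c : List ℤ} (hc : ∀ x ∈ c, (2 : ℤ) ≤ x) :
    ∀ i : ℕ, i ≤ c.length → 0 ≤ hjP c i ∧ hjP c i < hjP c (i + 1)
  | 0, _ => by simp [hjP]
  | i + 1, h => by
    obtain ⟨h0, h1⟩ := hjP_pos_mono hc i (by omega)
    have hd : 2 ≤ c.getD i 0 := by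
      rw [List.getD_eq_getElem _ _ (by omega)]; exact hc _ (List.getElem_mem _)
    refine ⟨by omega, ?_⟩
    rw [hjP]
    nlinarith

theorem one_le_hjP {c : List ℤ} (hc : ∀ x ∈ c, (2 : ℤ) ≤ x) {i : ℕ} (h1 : 1 ≤ i)
    (h2 : i ≤ c.length) : 1 ≤ hjP c i := by
  obtain ⟨j, rfl⟩ : ∃ j, i = j + 1 := ⟨i - 1, by omega⟩
  have := hjP_pos_mono hc j (by omega)
  omega

theorem one_lt_hjVal : ∀ {c : List ℤ}, (∀ x ∈ c, (2 : ℤ) ≤ x) → c ≠ [] → 1 < HJFrac.hjVal c
  | [], _, h => absurd rfl h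
  | a :: r, hc, _ => by
    have ha : (2 : ℚ) ≤ a := by exact_mod_cast hc a List.mem_cons_self
    simp only [HJFrac.hjVal]
    rcases eq_or_ne r [] with rfl | hr
    · simp [HJFrac.hjVal]; linarith
    · have := inv_lt_one_of_one_lt₀ (one_lt_hjVal (fun x hx => hc x (List.mem_cons_of_mem _ hx)) hr)
      linarith

section

variable {p q m : ℕ}

theorem gcdK_pos (hm : 0 < m) : 0 < gcdK p q m := Nat.gcd_pos_of_pos_left _ hm

theorem gb_eq (hpq : p < q) : (gcdK p q m : ℤ) * bB p q m = (q : ℤ) - p := by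
  have : gcdK p q m * bB p q m = q - p :=
    Nat.mul_div_cancel' (Nat.gcd_dvd_right _ _)
  rw [← Nat.cast_mul, this, Nat.cast_sub hpq.le]

theorem gt_eq : gcdK p q m * tT p q m = q - p - m * p % (q - p) :=
  Nat.mul_div_cancel' (Nat.dvd_sub (Nat.gcd_dvd_right _ _)
    ((Nat.dvd_mod_iff (Nat.gcd_dvd_right _ _)).2 (dvd_mul_of_dvd_left (Nat.gcd_dvd_left _ _) p)))

theorem pm_eq (hpq : p < q) :
    (p : ℤ) * m = ((alpha p q m : ℤ) + 1) * (gcdK p q m * bB p q m) - gcdK p q m * tT p q m := by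
  rw [gb_eq hpq]
  have h1 : (q - p) * alpha p q m + m * p % (q - p) = m * p := Nat.div_add_mod _ _
  have h2 := gt_eq (p := p) (q := q) (m := m)
  have h3 : m * p % (q - p) < q - p := Nat.mod_lt _ (by omega)
  have e1 : ((q - p : ℕ) : ℤ) = (q : ℤ) - p := Nat.cast_sub hpq.le
  zify [h3.le] at h1 h2
  rw [e1] at h1 h2
  linear_combination -h1 + h2

theorem tT_pos (hpq : p < q) : 0 < tT p q m := by
  have h2 := gt_eq (p := p) (q := q) (m := m)
  have h3 : m * p % (q - p) < q - p := Nat.mod_lt _ (by omega)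
  by_contra h
  rw [Nat.eq_zero_of_not_pos h, mul_zero] at h2
  omega

theorem nN_eq (hpq : p < q) (c : List ℤ) (i : ℕ) :
    nN p q m c i = gcdK p q m * tI p q m c i := by
  have h1 := pm_eq (m := m) hpq
  have h2 := gb_eq (m := m) hpq
  unfold nN eE lL tI
  push_cast
  linear_combination -(hjP c i) * h1 + (hjQ c i - ((alpha p q m : ℤ) + 1) * hjP c i) * h2

theorem qp_mul_lL (c : List ℤ) (i : ℕ) :
    ((q : ℤ) - p) * lL p q m c i = nN p q m c i + (p : ℤ) * m * hjP c i := by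
  unfold nN eE lL; push_cast; ring

theorem eE_eq (c : List ℤ) (i : ℕ) : eE p q m c i = lL p q m c i + (m : ℤ) * hjP c i := by
  unfold eE lL; push_cast; ring

theorem bB_pos (hm : 0 < m) (hpq : p < q) : 0 < bB p q m :=
  Nat.div_pos (Nat.le_of_dvd (by omega) (Nat.gcd_dvd_right _ _)) (gcdK_pos hm)

variable {c : List ℤ}

theorem tI_data (hm : 0 < m) (hpq : p < q) (hc : IsHJDigits p q m c) :
    ∀ i : ℕ, i < c.length → 0 < tI p q m c (i + 1) ∧
      (tI p q m c i : ℚ) = HJFrac.hjVal (c.drop i) * (tI p q m c (i + 1) : ℚ) := by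
  have ht : (tT p q m : ℚ) ≠ 0 := by exact_mod_cast (tT_pos hpq).ne'
  intro i
  induction i with
  | zero =>
    intro _
    simp only [tI, hjP, hjQ, List.drop_zero, hc.2]
    refine ⟨by simpa using tT_pos hpq, ?_⟩
    push_cast; field_simp; ring
  | succ i ih =>
    intro hi
    obtain ⟨hpos, heq⟩ := ih (by omega)
    rw [List.drop_eq_getElem_cons (show i < c.length by omega)] at heq
    simp only [HJFrac.hjVal] at heq
    set V := HJFrac.hjVal (c.drop (i + 1))
    have hV : 1 < V := one_lt_hjVal (fun x hx => hc.1 x (List.mem_of_mem_drop hx))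
      (by intro h; have := congrArg List.length h; simp at this; omega)
    have hrec : (tI p q m c (i + 2) : ℚ) = V⁻¹ * (tI p q m c (i + 1) : ℚ) := by
      rw [tI_rec, List.getD_eq_getElem _ _ (show i < c.length by omega)]
      push_cast
      linear_combination -heq
    refine ⟨?_, ?_⟩
    · have : (0 : ℚ) < (tI p q m c (i + 2) : ℚ) := by
        rw [hrec]; have : (0 : ℚ) < (tI p q m c (i + 1) : ℚ) := by exact_mod_cast hpos
        positivity
      exact_mod_cast this
    · rw [hrec, ← mul_assoc, mul_inv_cancel₀ (by positivity), one_mul]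

theorem tI_bounds (hm : 0 < m) (hpq : p < q) (hc : IsHJDigits p q m c) {i : ℕ} (h1 : 1 ≤ i)
    (h2 : i ≤ c.length) :
    0 < tI p q m c i ∧ tI p q m c i < tI p q m c (i - 1) ∧ tI p q m c (i - 1) ≤ bB p q m := by
  have hdec : ∀ j, j < c.length → tI p q m c (j + 1) < tI p q m c j := by
    intro j hj
    obtain ⟨h0, he⟩ := tI_data hm hpq hc j hj
    have hV : 1 < HJFrac.hjVal (c.drop j) := one_lt_hjVal (fun x hx => hc.1 x (List.mem_of_mem_drop hx))
      (by intro h; have := congrArg List.length h; simp at this; omega)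
    have h0' : (0 : ℚ) < (tI p q m c (j + 1) : ℚ) := by exact_mod_cast h0
    have : (tI p q m c (j + 1) : ℚ) < (tI p q m c j : ℚ) := by rw [he]; nlinarith
    exact_mod_cast this
  have hle : ∀ j, j ≤ c.length → tI p q m c j ≤ bB p q m := by
    intro j
    induction j with
    | zero => intro _; simp [tI, hjP, hjQ]
    | succ j ih => intro hj; exact (hdec j (by omega)).le.trans (ih (by omega))
  obtain ⟨j, rfl⟩ : ∃ j, i = j + 1 := ⟨i - 1, by omega⟩
  exact ⟨(tI_data hm hpq hc j (by omega)).1, hdec j (by omega), hle j (by omega)⟩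

/-- Best approximation. -/
theorem approx (hm : 0 < m) (hpq : p < q) (hc : IsHJDigits p q m c) {i : ℕ} (h1 : 1 ≤ i)
    (h2 : i ≤ c.length) {x w : ℤ} (hx0 : 0 < x) (hx : x < hjP c i)
    (hlo : 0 ≤ (tT p q m : ℤ) * x - bB p q m * w) :
    tI p q m c (i - 1) ≤ (tT p q m : ℤ) * x - bB p q m * w := by
  obtain ⟨j, rfl⟩ : ∃ j, i = j + 1 := ⟨i - 1, by omega⟩
  obtain ⟨ht0, htd, -⟩ := tI_bounds hm hpq hc h1 h2
  obtain ⟨hP0, hP⟩ := hjP_pos_mono hc.1 j (by omega)
  rw [Nat.add_sub_cancel] at htd ⊢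
  set A := x * hjQ c (j + 1) - w * hjP c (j + 1) with hA
  set B := w * hjP c j - x * hjQ c j with hB
  have hxeq : x = A * hjP c j + B * hjP c (j + 1) := by
    rw [hA, hB]; linear_combination x * unimod c j
  have hρ : (tT p q m : ℤ) * x - bB p q m * w = A * tI p q m c j + B * tI p q m c (j + 1) := by
    simp only [hA, hB, tI]; linear_combination ((tT p q m : ℤ) * x - bB p q m * w) * unimod c j
  rw [hρ] at hlo ⊢
  set P := hjP c j; set P' := hjP c (j + 1); set T := tI p q m c j; set T' := tI p q m c (j + 1)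
  rcases le_or_gt A 0 with hA0 | hA0
  · exfalso
    have hB1 : 1 ≤ B := by nlinarith
    rcases hA0.eq_or_lt with hA1 | hA1
    · rw [hA1] at hxeq; nlinarith
    · have hBA : -A < B := by
        by_contra h
        nlinarith
      nlinarith
  · rcases le_or_gt 0 B with hB0 | hB0
    · nlinarith
    · have hAB : -B < A := by
        by_contra h
        nlinarith
      nlinarith

theorem approx_upper (hm : 0 < m) (hpq : p < q) (hc : IsHJDigits p q m c) {i : ℕ} (h1 : 1 < i)
    (h2 : i ≤ c.length) {x w : ℤ} (hx0 : 0 < x) (hx : x < hjP c i)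
    (hhi : (tT p q m : ℤ) * x - bB p q m * w < bB p q m) :
    (tT p q m : ℤ) * x - bB p q m * w ≤ bB p q m + tI p q m c i - tI p q m c (i - 1) := by
  obtain ⟨j, rfl⟩ : ∃ j, i = j + 1 := ⟨i - 1, by omega⟩
  obtain ⟨ht0, htd, -⟩ := tI_bounds hm hpq hc h1.le h2
  obtain ⟨hP0, hP⟩ := hjP_pos_mono hc.1 j (by omega)
  have hP1 := one_le_hjP hc.1 (show 1 ≤ j by omega) (by omega)
  rw [Nat.add_sub_cancel] at htd ⊢
  set A := -x * hjQ c (j + 1) - (-w - 1) * hjP c (j + 1) with hA
  set B := (-w - 1) * hjP c j + x * hjQ c j with hB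
  have hxeq : -x = A * hjP c j + B * hjP c (j + 1) := by
    rw [hA, hB]; linear_combination -x * unimod c j
  have hρ : bB p q m - ((tT p q m : ℤ) * x - bB p q m * w) = A * tI p q m c j + B * tI p q m c (j + 1) := by
    simp only [hA, hB, tI]
    linear_combination (bB p q m - ((tT p q m : ℤ) * x - bB p q m * w)) * unimod c j
  suffices tI p q m c j - tI p q m c (j + 1) ≤ bB p q m - ((tT p q m : ℤ) * x - bB p q m * w) by linarith
  have hpos : 0 < bB p q m - ((tT p q m : ℤ) * x - bB p q m * w) := by linarith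
  rw [hρ] at hpos ⊢
  set P := hjP c j; set P' := hjP c (j + 1); set T := tI p q m c j; set T' := tI p q m c (j + 1)
  rcases le_or_gt 0 B with hB0 | hB0
  · exfalso
    have hA0 : A < 0 := by nlinarith
    have : -A < B := by
      by_contra h
      nlinarith
    nlinarith
  · have hA0 : 0 < A := by nlinarith
    have : -B ≤ A := by
      by_contra h
      nlinarith
    nlinarith

/-- Monomials of weight `(nᵢ, 0)`. -/
theorem gen_cases (hm : 0 < m) (hpq : p < q) (hc : IsHJDigits p q m c) {i : ℕ} (h1 : 1 ≤ i)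
    (h2 : i ≤ c.length) {a u v : ℤ} (ha : 0 ≤ a) (hu : 0 ≤ u) (hv : 0 ≤ v)
    (hw : a - p * u + q * v = nN p q m c i) (hdvd : (m : ℤ) ∣ v - u) (han : a < nN p q m c i) :
    eE p q m c i ≤ u ∧ lL p q m c i ≤ v := by
  obtain ⟨y, hy⟩ := hdvd
  obtain ⟨ht0, htd, htb⟩ := tI_bounds hm hpq hc h1 h2
  have hP := one_le_hjP hc.1 h1 h2
  have hu' : u = v + m * -y := by linarith
  rw [nN_eq hpq] at hw han
  have hqp : (0 : ℤ) < (q : ℤ) - p := by omega
  have hg : (0 : ℤ) < gcdK p q m := by exact_mod_cast gcdK_pos hm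
  set g := (gcdK p q m : ℤ)
  set x := -y
  set n := g * tI p q m c i with hn
  have hv' : ((q : ℤ) - p) * v = n - a + p * m * x := by rw [hu'] at hw; linarith
  have hnb : n < (q : ℤ) - p := by rw [← gb_eq (m := m) hpq]; nlinarith
  have hx : 0 < x := by
    by_contra h
    have h' : ((q : ℤ) - p) * v < ((q : ℤ) - p) * 1 := by
      have : (p : ℤ) * m * x ≤ 0 := mul_nonpos_of_nonneg_of_nonpos (by positivity) (le_of_not_gt h)
      linarith
    have hv0 : v = 0 := by nlinarith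
    have hx0 : (m : ℤ) * x = 0 := by
      rcases (le_of_not_gt h).eq_or_lt with h0 | h0
      · rw [h0, mul_zero]
      · have : (0 : ℤ) < m := by exact_mod_cast hm
        nlinarith
    rw [hv0] at hv'
    have : (p : ℤ) * m * x = 0 := by rw [mul_assoc, hx0, mul_zero]
    linarith
  have hxP : hjP c i ≤ x := by
    by_contra h
    rcases le_or_gt (hjP c i - x) 0 with h' | h'
    · omega
    obtain ⟨k, hk⟩ : ∃ k : ℤ, a = g * ((tT p q m : ℤ) * (hjP c i - x) - bB p q m * k) := by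
      refine ⟨v - ((alpha p q m : ℤ) + 1) * x + hjQ c i, ?_⟩
      have e1 := pm_eq (m := m) hpq
      have e2 := gb_eq (m := m) hpq
      simp only [hn, tI] at hv'
      linear_combination hv' + x * e1 + v * e2
    have h3 := approx hm hpq hc h1 h2 (x := hjP c i - x) (w := k) h' (by linarith) (by nlinarith)
    nlinarith
  have hl := qp_mul_lL (p := p) (q := q) (m := m) c i
  rw [nN_eq hpq, ← hn] at hl
  have hvl : lL p q m c i ≤ v := by
    by_contra h
    have : ((q : ℤ) - p) * (v + 1) ≤ ((q : ℤ) - p) * lL p q m c i :=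
      mul_le_mul_of_nonneg_left (by omega) hqp.le
    have : (p : ℤ) * m * hjP c i ≤ p * m * x := mul_le_mul_of_nonneg_left hxP (by positivity)
    linarith
  refine ⟨?_, hvl⟩
  rw [eE_eq, hu']
  have : (m : ℤ) * hjP c i ≤ m * x := mul_le_mul_of_nonneg_left hxP (by positivity)
  linarith

theorem lL_nonneg (hm : 0 < m) (hpq : p < q) (hc : IsHJDigits p q m c) {i : ℕ} (h1 : 1 ≤ i)
    (h2 : i ≤ c.length) : 0 ≤ lL p q m c i := by
  have hl := qp_mul_lL (p := p) (q := q) (m := m) c i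
  have ht := (tI_bounds hm hpq hc h1 h2).1
  have hP := one_le_hjP hc.1 h1 h2
  rw [nN_eq hpq] at hl
  have : (0 : ℤ) ≤ (p : ℤ) * m * hjP c i := by positivity
  have : (0 : ℤ) ≤ (gcdK p q m : ℤ) * tI p q m c i := by positivity
  by_contra h
  have : (0 : ℤ) < (q : ℤ) - p := by omega
  nlinarith

theorem eE_pos (hm : 0 < m) (hpq : p < q) (hc : IsHJDigits p q m c) {i : ℕ} (h1 : 1 ≤ i)
    (h2 : i ≤ c.length) : 0 < eE p q m c i := by
  rw [eE_eq]
  have := lL_nonneg hm hpq hc h1 h2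
  have hP := one_le_hjP hc.1 h1 h2
  have : (0 : ℤ) < (m : ℤ) * hjP c i := mul_pos (by exact_mod_cast hm) (by omega)
  linarith

/-- Two monomials of the same weight modulo `X₀^(nᵢ₋₁)` and weight zero monomials. -/
theorem pair_cases (hm : 0 < m) (hpq : p < q) (hc : IsHJDigits p q m c) {i : ℕ} (h1 : 1 ≤ i)
    (h2 : i ≤ c.length) {a u v a' u' v' : ℤ} (ha : 0 ≤ a) (ha' : 0 ≤ a') (hu' : 0 ≤ u') (hv' : 0 ≤ v')
    (hna : a < nN p q m c (i - 1)) (hna' : a' < nN p q m c (i - 1))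
    (hw : a - p * u + q * v = a' - p * u' + q * v') (hdvd : (m : ℤ) ∣ (v - u) - (v' - u'))
    (hx : v - u ≤ v' - u') :
    (a = a' ∧ u = u' ∧ v = v') ∨ (a' ≤ a ∧ u' ≤ u ∧ v' ≤ v) ∨
      (eE p q m c i ≤ u ∧ lL p q m c i ≤ v) := by
  obtain ⟨y, hy⟩ := hdvd
  obtain ⟨ht0, htd, htb⟩ := tI_bounds hm hpq hc h1 h2
  have hqp : (0 : ℤ) < (q : ℤ) - p := by omega
  have hg : (0 : ℤ) < gcdK p q m := by exact_mod_cast gcdK_pos hm
  have hm' : (0 : ℤ) < m := by exact_mod_cast hm
  rw [nN_eq hpq] at hna hna'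
  set g := (gcdK p q m : ℤ)
  set x := -y
  have hx0 : 0 ≤ x := by
    by_contra h
    nlinarith
  have hΔu : u - u' = (v - v') + m * x := by simp only [x]; linarith
  have hΔv : ((q : ℤ) - p) * (v - v') = (a' - a) + p * m * x := by
    linear_combination hw + (p : ℤ) * hΔu
  have hnb : g * tI p q m c (i - 1) ≤ (q : ℤ) - p := by
    rw [← gb_eq (m := m) hpq]; exact mul_le_mul_of_nonneg_left htb hg.le
  rcases hx0.eq_or_lt with hx1 | hx1
  · left
    rw [← hx1, mul_zero, add_zero] at hΔv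
    have hv0 : v = v' := by
      rcases lt_trichotomy v v' with h | h | h
      · have : ((q : ℤ) - p) * (v - v') ≤ ((q : ℤ) - p) * (-1) :=
          mul_le_mul_of_nonneg_left (by omega) hqp.le
        linarith
      · exact h
      · have : ((q : ℤ) - p) * 1 ≤ ((q : ℤ) - p) * (v - v') :=
          mul_le_mul_of_nonneg_left (by omega) hqp.le
        linarith
    subst hv0
    rw [← hx1] at hΔu
    refine ⟨?_, ?_, rfl⟩ <;> linarith
  rcases le_or_gt a' a with haa | haa
  · right; left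
    have hv0 : v' ≤ v := by
      by_contra h
      have : ((q : ℤ) - p) * (v - v') ≤ ((q : ℤ) - p) * (-1) :=
        mul_le_mul_of_nonneg_left (by omega) hqp.le
      have : (0 : ℤ) ≤ p * m * x := by positivity
      linarith
    have : (0 : ℤ) < m * x := mul_pos hm' hx1
    exact ⟨haa, by linarith, hv0⟩
  right; right
  have hxP : hjP c i ≤ x := by
    by_contra h
    obtain ⟨k, hk⟩ : ∃ k : ℤ, a' - a = g * ((tT p q m : ℤ) * x - bB p q m * k) := by
      refine ⟨((alpha p q m : ℤ) + 1) * x - (v - v'), ?_⟩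
      have e1 := pm_eq (m := m) hpq
      have e2 := gb_eq (m := m) hpq
      linear_combination -hΔv - x * e1 - (v - v') * e2
    have h3 := approx hm hpq hc h1 h2 (w := k) hx1 (by linarith) (by nlinarith)
    nlinarith
  have hl := qp_mul_lL (p := p) (q := q) (m := m) c i
  rw [nN_eq hpq] at hl
  have hgt : g * tI p q m c i < g * tI p q m c (i - 1) := mul_lt_mul_of_pos_left htd hg
  have hvl : lL p q m c i ≤ v - v' := by
    by_contra h
    have : ((q : ℤ) - p) * (v - v' + 1) ≤ ((q : ℤ) - p) * lL p q m c i :=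
      mul_le_mul_of_nonneg_left (by omega) hqp.le
    have : (p : ℤ) * m * hjP c i ≤ p * m * x := mul_le_mul_of_nonneg_left hxP (by positivity)
    linarith
  refine ⟨?_, by linarith⟩
  rw [eE_eq]
  have : (m : ℤ) * hjP c i ≤ m * x := mul_le_mul_of_nonneg_left hxP hm'.le
  linarith

theorem emod_bounds (hm : 0 < m) (hpq : p < q) (hc : IsHJDigits p q m c) {i : ℕ} (h1 : 1 < i)
    (h2 : i ≤ c.length) {x : ℤ} (hx0 : 0 < x) (hx : x < hjP c i) :
    tI p q m c (i - 1) ≤ Int.emod ((tT p q m : ℤ) * x) (bB p q m) ∧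
      Int.emod ((tT p q m : ℤ) * x) (bB p q m) ≤ bB p q m + tI p q m c i - tI p q m c (i - 1) := by
  have hb : (0 : ℤ) < bB p q m := by exact_mod_cast bB_pos hm hpq
  have hdef : Int.emod ((tT p q m : ℤ) * x) (bB p q m) =
      (tT p q m : ℤ) * x - bB p q m * ((tT p q m : ℤ) * x / bB p q m) := Int.emod_def _ _
  constructor
  · rw [hdef]
    exact approx hm hpq hc h1.le h2 hx0 hx (by rw [← hdef]; exact Int.emod_nonneg _ hb.ne')
  · rw [hdef]
    exact approx_upper hm hpq hc h1 h2 hx0 hx (by rw [← hdef]; exact Int.emod_lt_of_pos _ hb)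

theorem emod_P (hm : 0 < m) (hpq : p < q) (hc : IsHJDigits p q m c) {i : ℕ} (h1 : 1 ≤ i)
    (h2 : i ≤ c.length) : Int.emod ((tT p q m : ℤ) * hjP c i) (bB p q m) = tI p q m c i := by
  obtain ⟨h0, hd, hb⟩ := tI_bounds hm hpq hc h1 h2
  have h : (tT p q m : ℤ) * hjP c i = tI p q m c i + bB p q m * hjQ c i := by unfold tI; ring
  show ((tT p q m : ℤ) * hjP c i) % (bB p q m) = _
  rw [h, Int.add_mul_emod_self_left, Int.emod_eq_of_lt h0.le (by linarith)]

theorem mod_add (hm : 0 < m) (hpq : p < q) (hc : IsHJDigits p q m c) {i : ℕ} (h1 : 1 < i)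
    (h2 : i ≤ c.length) {x : ℤ} (hx0 : 0 < x) (hx : x < hjP c i) :
    Int.emod ((p : ℤ) * m * x + nN p q m c i) ((q : ℤ) - p) =
      nN p q m c i + Int.emod ((p : ℤ) * m * x) ((q : ℤ) - p) := by
  obtain ⟨hlo, -⟩ := emod_bounds hm hpq hc h1 h2 hx0 hx
  obtain ⟨h0, hd, hb⟩ := tI_bounds hm hpq hc h1.le h2
  have hg : (0 : ℤ) < gcdK p q m := by exact_mod_cast gcdK_pos hm
  have hbpos : (0 : ℤ) < bB p q m := by exact_mod_cast bB_pos hm hpq
  set ρ := Int.emod ((tT p q m : ℤ) * x) (bB p q m) with hρdef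
  have hρ : ρ = (tT p q m : ℤ) * x - bB p q m * ((tT p q m : ℤ) * x / bB p q m) := Int.emod_def _ _
  have hρb : ρ < bB p q m := Int.emod_lt_of_pos _ hbpos
  rw [← gb_eq (m := m) hpq, pm_eq (m := m) hpq, nN_eq hpq]
  set g := (gcdK p q m : ℤ)
  set k := (((alpha p q m : ℤ) + 1) * x - (tT p q m : ℤ) * x / bB p q m - 1)
  have e : ((((alpha p q m : ℤ) + 1) * (g * bB p q m) - g * tT p q m) * x) =
      g * (bB p q m - ρ) + (g * bB p q m) * k := by rw [hρ]; simp only [k]; ring
  rw [e]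
  show (g * (bB p q m - ρ) + (g * bB p q m) * k + g * tI p q m c i) % (g * bB p q m) =
    g * tI p q m c i + (g * (bB p q m - ρ) + (g * bB p q m) * k) % (g * bB p q m)
  rw [Int.add_right_comm, Int.add_mul_emod_self_left, Int.add_mul_emod_self_left,
    Int.emod_eq_of_lt (by nlinarith) (by nlinarith), Int.emod_eq_of_lt (by nlinarith) (by nlinarith)]
  ring

end

end Groth.Agent.InvHilb
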