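import Groth.Agent.InvHilb.Arith
import Mathlib.RingTheory.MvPolynomial.WeightedHomogeneous
import Mathlib.LinearAlgebra.Dimension.Finite

/-! Weight pieces of monomial-type quotients. -/

namespace Groth.Agent.InvHilb

open MvPolynomial W4c2invhilbsl2

universe u

/-- Rank at most one from pairwise proportional monomials. -/
theorem rank_piece_le_one {σ : Type} {M : Type} [AddCommMonoid M] {k : Type u} [Field k] (w : σ → M)
    (I : Ideal (MvPolynomial σ k)) (ν : M)
    (h : ∀ d d' : σ →₀ ℕ, Finsupp.weight w d = ν → Finsupp.weight w d' = ν →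
      ∃ t : k, Ideal.Quotient.mk I (monomial d 1) = t • Ideal.Quotient.mk I (monomial d' 1) ∨
        Ideal.Quotient.mk I (monomial d' 1) = t • Ideal.Quotient.mk I (monomial d 1)) :
    Module.rank k (piece k w I ν) ≤ 1 := by
  classical
  suffices h1 : ∃ v₀, piece k w I ν ≤ Submodule.span k {v₀} by
    obtain ⟨v₀, hv⟩ := h1
    refine (Submodule.rank_mono hv).trans ((rank_span_le _).trans ?_)
    simp
  by_cases hex : ∃ d, Finsupp.weight w d = ν ∧ Ideal.Quotient.mk I (monomial d 1) ≠ 0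
  · obtain ⟨d₀, hd₀, hne⟩ := hex
    refine ⟨Ideal.Quotient.mk I (monomial d₀ 1), ?_⟩
    rintro _ ⟨f, hf, rfl⟩
    rw [SetLike.mem_coe, mem_weightedHomogeneousSubmodule] at hf
    show Ideal.Quotient.mk I f ∈ _
    rw [f.as_sum, map_sum]
    refine Submodule.sum_mem _ fun d hd => ?_
    rw [← mul_one (coeff d f), ← smul_eq_mul, ← smul_monomial, ← Ideal.Quotient.mkₐ_eq_mk k, map_smul,
      Ideal.Quotient.mkₐ_eq_mk]
    refine Submodule.smul_mem _ _ (Submodule.mem_span_singleton.2 ?_)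
    obtain ⟨t, ht | ht⟩ := h d d₀ (hf (mem_support_iff.1 hd)) hd₀
    · exact ⟨t, ht.symm⟩
    · have ht0 : t ≠ 0 := by
        rintro rfl
        exact hne (by rw [ht, zero_smul])
      exact ⟨t⁻¹, by rw [ht, inv_smul_smul₀ ht0]⟩
  · push Not at hex
    refine ⟨0, ?_⟩
    rintro _ ⟨f, hf, rfl⟩
    rw [SetLike.mem_coe, mem_weightedHomogeneousSubmodule] at hf
    show Ideal.Quotient.mk I f ∈ _
    rw [f.as_sum, map_sum]
    refine Submodule.sum_mem _ fun d hd => ?_
    rw [← mul_one (coeff d f), ← smul_eq_mul, ← smul_monomial, ← Ideal.Quotient.mkₐ_eq_mk k, map_smul,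
      Ideal.Quotient.mkₐ_eq_mk, hex d (hf (mem_support_iff.1 hd)), smul_zero]
    exact zero_mem _

/-- A monomial in three variables. -/
noncomputable def mon3 (k : Type u) [CommRing k] (a u v : ℕ) : MvPolynomial (Fin 3) k :=
  X 0 ^ a * X 1 ^ u * X 2 ^ v

theorem monomial3 {k : Type u} [CommRing k] (d : Fin 3 →₀ ℕ) :
    monomial d (1 : k) = mon3 k (d 0) (d 1) (d 2) := by
  rw [monomial_eq, C_1, one_mul, Finsupp.prod_fintype _ _ (fun _ => pow_zero _), Fin.prod_univ_three,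
    mon3]

theorem mon3_isHom {k : Type u} [CommRing k] {m : ℕ} (w : Fin 3 → ℤ × ZMod m) (a u v : ℕ) :
    IsWeightedHomogeneous w (mon3 k a u v) (a • w 0 + u • w 1 + v • w 2) :=
  (((isWeightedHomogeneous_X k w 0).pow a).mul ((isWeightedHomogeneous_X k w 1).pow u)).mul
    ((isWeightedHomogeneous_X k w 2).pow v)

theorem wt3_eval (p q m a u v : ℕ) :
    a • wt3 p q m 0 + u • wt3 p q m 1 + v • wt3 p q m 2 =
      (((a : ℤ) - p * u + q * v), (((v : ℤ) - u : ℤ) : ZMod m)) := by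
  refine Prod.ext ?_ ?_ <;> simp [wt3] <;> ring

theorem weight3 (p q m : ℕ) (d : Fin 3 →₀ ℕ) :
    Finsupp.weight (wt3 p q m) d =
      (((d 0 : ℤ) - p * d 1 + q * d 2), (((d 2 : ℤ) - d 1 : ℤ) : ZMod m)) := by
  rw [← wt3_eval, Finsupp.weight_apply, Finsupp.sum_fintype, Fin.sum_univ_three]
  intro; simp

theorem mon3_mem_idealK {k : Type u} [CommRing k] {p q m a u v : ℕ}
    (hne : a ≠ 0 ∨ u ≠ 0 ∨ v ≠ 0) (hw : (a : ℤ) - p * u + q * v = 0) (hd : (m : ℤ) ∣ (v : ℤ) - u) :
    mon3 k a u v ∈ idealK k p q m := by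
  refine Ideal.subset_span ⟨Finsupp.equivFunOnFinite.symm ![a, u, v], ?_, ?_, ?_⟩
  · intro h
    have h0 := DFunLike.congr_fun h (0 : Fin 3)
    have h1 := DFunLike.congr_fun h (1 : Fin 3)
    have h2 := DFunLike.congr_fun h (2 : Fin 3)
    simp at h0 h1 h2
    omega
  · rw [weight3]
    refine Prod.ext ?_ ?_
    · simpa using hw
    · simpa using (ZMod.intCast_zmod_eq_zero_iff_dvd ((v : ℤ) - u) m).2 hd
  · rw [monomial3]; simp

theorem mon3_mul {k : Type u} [CommRing k] (a u v a' u' v' : ℕ) :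
    mon3 k a u v * mon3 k a' u' v' = mon3 k (a + a') (u + u') (v + v') := by
  simp only [mon3, pow_add]; ring

variable {p q m : ℕ} {c : List ℤ}

theorem rank_piece_idealL {k : Type u} [Field k] (hm : 0 < m) (hpq : p < q)
    (hc : IsHJDigits p q m c) {i : ℕ} (h1 : 1 ≤ i) (h2 : i ≤ c.length) (s : k) (ν : ℤ × ZMod m) :
    Module.rank k (piece k (wt3 p q m) (idealL k p q m c i s) ν) ≤ 1 := by
  set I := idealL k p q m c i s
  have hg : (0 : ℤ) < gcdK p q m := by exact_mod_cast gcdK_pos hm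
  obtain ⟨ht0, htd, -⟩ := tI_bounds hm hpq hc h1 h2
  have hl0 := lL_nonneg hm hpq hc h1 h2
  have he0 := eE_pos hm hpq hc h1 h2
  have hn0 : 0 ≤ nN p q m c i := by rw [nN_eq hpq]; positivity
  obtain ⟨L, hL⟩ := Int.eq_ofNat_of_zero_le hl0
  obtain ⟨E, hE⟩ := Int.eq_ofNat_of_zero_le he0.le
  obtain ⟨n, hn⟩ := Int.eq_ofNat_of_zero_le hn0
  suffices key : ∀ N a u v a' u' v' : ℕ, u + v + u' + v' = N →
      (a : ℤ) - p * u + q * v = a' - p * u' + q * v' → (m : ℤ) ∣ ((v : ℤ) - u) - (v' - u') →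
      ∃ t : k, Ideal.Quotient.mk I (mon3 k a u v) = t • Ideal.Quotient.mk I (mon3 k a' u' v') ∨
        Ideal.Quotient.mk I (mon3 k a' u' v') = t • Ideal.Quotient.mk I (mon3 k a u v) by
    refine rank_piece_le_one _ _ _ fun d d' hd hd' => ?_
    rw [weight3] at hd hd'
    have e := hd.trans hd'.symm
    simp only [Prod.mk.injEq] at e
    rw [monomial3, monomial3]
    exact key _ _ _ _ _ _ _ rfl e.1 (Int.ModEq.dvd ((ZMod.intCast_eq_intCast_iff _ _ m).1 e.2.symm))
  intro N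
  induction N using Nat.strong_induction_on with
  | _ N ih =>
  intro a u v a' u' v' hN hw hd
  wlog hx : (v : ℤ) - u ≤ (v' : ℤ) - u' generalizing a u v a' u' v'
  · obtain ⟨t, ht⟩ := this a' u' v' a u v (by omega) hw.symm (by rw [← neg_sub, dvd_neg]; exact hd)
      (by omega)
    exact ⟨t, ht.symm⟩
  have hbig : ∀ a u v : ℕ, nN p q m c (i - 1) ≤ (a : ℤ) → Ideal.Quotient.mk I (mon3 k a u v) = 0 := by
    intro a u v h
    rw [Ideal.Quotient.eq_zero_iff_mem]
    refine Ideal.mem_sup_left (Ideal.mem_of_dvd _ ?_ (Ideal.subset_span (Set.mem_insert _ _)))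
    exact dvd_mul_of_dvd_left (dvd_mul_of_dvd_left (pow_dvd_pow _ (by omega)) _) _
  by_cases hna : nN p q m c (i - 1) ≤ (a : ℤ)
  · exact ⟨0, Or.inl (by rw [hbig a u v hna, zero_smul])⟩
  by_cases hna' : nN p q m c (i - 1) ≤ (a' : ℤ)
  · exact ⟨0, Or.inr (by rw [hbig a' u' v' hna', zero_smul])⟩
  rcases pair_cases hm hpq hc h1 h2 (by positivity) (by positivity) (by positivity) (by positivity)
    (lt_of_not_ge hna) (lt_of_not_ge hna') hw hd hx with h | h | h
  · obtain ⟨e1, e2, e3⟩ := h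
    exact ⟨1, Or.inl (by rw [Nat.cast_inj.1 e1, Nat.cast_inj.1 e2, Nat.cast_inj.1 e3, one_smul])⟩
  · obtain ⟨e1, e2, e3⟩ := h
    by_cases heq : a = a' ∧ u = u' ∧ v = v'
    · obtain ⟨rfl, rfl, rfl⟩ := heq; exact ⟨1, Or.inl (one_smul _ _).symm⟩
    refine ⟨0, Or.inl ?_⟩
    rw [zero_smul, Ideal.Quotient.eq_zero_iff_mem]
    norm_cast at e1 e2 e3
    rw [show mon3 k a u v = mon3 k a' u' v' * mon3 k (a - a') (u - u') (v - v') by
      rw [mon3_mul]; congr <;> omega]
    refine Ideal.mul_mem_left _ _ (Ideal.mem_sup_right (mon3_mem_idealK (by omega) ?_ ?_))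
    · push_cast [Nat.cast_sub e1, Nat.cast_sub e2, Nat.cast_sub e3]; linarith
    · push_cast [Nat.cast_sub e2, Nat.cast_sub e3]; convert hd using 1; ring
  · obtain ⟨e2, e3⟩ := h
    rw [hE] at e2
    rw [hL] at e3
    norm_cast at e2 e3
    have hgen : C s * X 0 ^ n - X 1 ^ E * X 2 ^ L ∈ I := by
      refine Ideal.mem_sup_left (Ideal.subset_span (Set.mem_insert_of_mem _ (Set.mem_singleton_iff.2 ?_)))
      rw [hn, hE, hL]; simp
    have hred : Ideal.Quotient.mk I (mon3 k a u v) = s • Ideal.Quotient.mk I (mon3 k (a + n) (u - E) (v - L)) := by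
      rw [← Ideal.Quotient.mkₐ_eq_mk k, ← map_smul, Ideal.Quotient.mkₐ_eq_mk, Ideal.Quotient.eq,
        smul_eq_C_mul]
      have : mon3 k a u v - C s * mon3 k (a + n) (u - E) (v - L) =
          mon3 k a (u - E) (v - L) * -(C s * X 0 ^ n - X 1 ^ E * X 2 ^ L) := by
        obtain ⟨u₀, rfl⟩ : ∃ z, u = E + z := ⟨u - E, by omega⟩
        obtain ⟨v₀, rfl⟩ : ∃ z, v = L + z := ⟨v - L, by omega⟩
        simp only [Nat.add_sub_cancel_left, mon3, pow_add]; ring
      rw [this]
      exact Ideal.mul_mem_left _ _ (neg_mem hgen)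
    have hEpos : 0 < E := by omega
    have hwE : (n : ℤ) = -(p : ℤ) * E + q * L := by rw [← hn, ← hE, ← hL]; rfl
    obtain ⟨t, ht⟩ := ih (u - E + (v - L) + u' + v') (by omega) (a + n) (u - E) (v - L) a' u' v' rfl
      (by push_cast [Nat.cast_sub e2, Nat.cast_sub e3]; linarith)
      (by
        have he : (E : ℤ) = L + (m : ℤ) * hjP c i := by rw [← hE, ← hL]; exact eE_eq c i
        push_cast [Nat.cast_sub e2, Nat.cast_sub e3]
        obtain ⟨w, hw'⟩ := hd
        exact ⟨w + hjP c i, by linear_combination hw' + he⟩)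
    rcases ht with ht | ht
    · exact ⟨s * t, Or.inl (by rw [hred, ht, smul_smul])⟩
    · by_cases hs : s = 0
      · exact ⟨0, Or.inl (by rw [hred, hs, zero_smul, zero_smul])⟩
      · exact ⟨t * s⁻¹, Or.inr (by rw [ht, hred, smul_smul, mul_assoc, inv_mul_cancel₀ hs, mul_one])⟩

theorem gen3 {k : Type u} [Field k] (hm : 0 < m) (hpq : p < q) (hc : IsHJDigits p q m c) {i : ℕ}
    (h1 : 1 ≤ i) (h2 : i ≤ c.length) (f : MvPolynomial (Fin 3) k)
    (hf : f ∈ weightedHomogeneousSubmodule k (wt3 p q m) (nN p q m c i, (0 : ZMod m))) :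
    ∃ a b : MvPolynomial (Fin 3) k, a ∈ weightedHomogeneousSubmodule k (wt3 p q m) 0 ∧
      b ∈ weightedHomogeneousSubmodule k (wt3 p q m) 0 ∧
      f = a * X 0 ^ (nN p q m c i).toNat +
        b * (X 1 ^ (eE p q m c i).toNat * X 2 ^ (lL p q m c i).toNat) := by
  classical
  set W₀ := weightedHomogeneousSubmodule k (wt3 p q m) 0
  set A : MvPolynomial (Fin 3) k := X 0 ^ (nN p q m c i).toNat
  set B : MvPolynomial (Fin 3) k := X 1 ^ (eE p q m c i).toNat * X 2 ^ (lL p q m c i).toNat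
  suffices h : f ∈ W₀.map (LinearMap.mulRight k A) ⊔ W₀.map (LinearMap.mulRight k B) by
    obtain ⟨_, ⟨a, ha, rfl⟩, _, ⟨b, hb, rfl⟩, hab⟩ := Submodule.mem_sup.1 h
    exact ⟨a, b, ha, hb, hab.symm⟩
  rw [f.as_sum]
  refine Submodule.sum_mem _ fun d hd => ?_
  have hw : Finsupp.weight (wt3 p q m) d = _ := hf (mem_support_iff.1 hd)
  rw [weight3] at hw
  simp only [Prod.mk.injEq] at hw
  obtain ⟨hw1, hw2⟩ := hw
  rw [ZMod.intCast_zmod_eq_zero_iff_dvd] at hw2
  rw [← mul_one (coeff d f), ← smul_eq_mul, ← smul_monomial, monomial3]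
  refine Submodule.smul_mem _ _ ?_
  have hzero : ∀ a u v : ℕ, (a : ℤ) - p * u + q * v = 0 → (m : ℤ) ∣ (v : ℤ) - u → mon3 k a u v ∈ W₀ := by
    intro a u v e1 e2
    have := mon3_isHom (m := m) (k := k) (wt3 p q m) a u v
    rw [wt3_eval, e1, (ZMod.intCast_zmod_eq_zero_iff_dvd _ _).2 e2] at this
    exact this
  by_cases han : nN p q m c i ≤ (d 0 : ℤ)
  · refine Submodule.mem_sup_left ⟨mon3 k (d 0 - (nN p q m c i).toNat) (d 1) (d 2), hzero _ _ _ ?_ hw2, ?_⟩
    · have hn0 : 0 ≤ nN p q m c i := by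
        rw [nN_eq hpq]; have := (tI_bounds hm hpq hc h1 h2).1; positivity
      rw [Nat.cast_sub (by omega), Int.toNat_of_nonneg hn0]; linarith
    · simp only [LinearMap.mulRight_apply, A, mon3]
      rw [show d 0 = (d 0 - (nN p q m c i).toNat) + (nN p q m c i).toNat by omega, pow_add,
        Nat.add_sub_cancel]
      ring
  · obtain ⟨hu, hv⟩ := gen_cases hm hpq hc h1 h2 (Int.natCast_nonneg _) (Int.natCast_nonneg _)
      (Int.natCast_nonneg _) hw1 hw2 (lt_of_not_ge han)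
    have hl0 := lL_nonneg hm hpq hc h1 h2
    have he0 := eE_pos hm hpq hc h1 h2
    refine Submodule.mem_sup_right
      ⟨mon3 k (d 0) (d 1 - (eE p q m c i).toNat) (d 2 - (lL p q m c i).toNat), hzero _ _ _ ?_ ?_, ?_⟩
    · rw [Nat.cast_sub (by omega), Nat.cast_sub (by omega), Int.toNat_of_nonneg hl0,
        Int.toNat_of_nonneg he0.le]
      have : nN p q m c i = -(p : ℤ) * eE p q m c i + q * lL p q m c i := rfl
      linarith
    · rw [Nat.cast_sub (by omega), Nat.cast_sub (by omega), Int.toNat_of_nonneg hl0,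
        Int.toNat_of_nonneg he0.le, eE_eq]
      obtain ⟨w, hw'⟩ := hw2
      exact ⟨w + hjP c i, by linear_combination hw'⟩
    · simp only [LinearMap.mulRight_apply, B, mon3]
      conv_rhs => rw [show d 1 = (d 1 - (eE p q m c i).toNat) + (eE p q m c i).toNat by omega,
        show d 2 = (d 2 - (lL p q m c i).toNat) + (lL p q m c i).toNat by omega, pow_add, pow_add]
      ring

theorem monomial5 {k : Type u} [CommRing k] (d : Fin 5 →₀ ℕ) :
    monomial d (1 : k) = X 0 ^ d 0 * X 1 ^ d 1 * X 2 ^ d 2 * X 3 ^ d 3 * X 4 ^ d 4 := by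
  rw [monomial_eq, C_1, one_mul, Finsupp.prod_fintype _ _ (fun _ => pow_zero _), Fin.prod_univ_five]

theorem weight5 (p q m : ℕ) (d : Fin 5 →₀ ℕ) :
    Finsupp.weight (wt5 p q m) d =
      (((d 0 : ℤ) - p * (d 1 + d 2) + q * (d 3 + d 4)),
        ((((d 3 : ℤ) + d 4) - (d 1 + d 2) : ℤ) : ZMod m)) := by
  rw [Finsupp.weight_apply, Finsupp.sum_fintype, Fin.sum_univ_five]
  · refine Prod.ext ?_ ?_ <;> simp [wt5] <;> ring
  · intro; simp

theorem gen5 {k : Type u} [Field k] (hm : 0 < m) (hpq : p < q) (hc : IsHJDigits p q m c) {i : ℕ}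
    (h1 : 1 ≤ i) (h2 : i ≤ c.length) (f : MvPolynomial (Fin 5) k)
    (hf : f ∈ weightedHomogeneousSubmodule k (wt5 p q m) (nN p q m c i, (0 : ZMod m))) :
    ∃ (a₀ : MvPolynomial (Fin 5) k) (a : ℕ → ℕ → MvPolynomial (Fin 5) k),
      a₀ ∈ weightedHomogeneousSubmodule k (wt5 p q m) 0 ∧
      (∀ e l : ℕ, a e l ∈ weightedHomogeneousSubmodule k (wt5 p q m) 0) ∧
      f = a₀ * X 0 ^ (nN p q m c i).toNat +
          ∑ e ∈ Finset.range ((eE p q m c i).toNat + 1), ∑ l ∈ Finset.range ((lL p q m c i).toNat + 1),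
            a e l * (X 1 ^ ((eE p q m c i).toNat - e) * X 2 ^ e *
              X 3 ^ ((lL p q m c i).toNat - l) * X 4 ^ l) := by
  classical
  set W₀ := weightedHomogeneousSubmodule k (wt5 p q m) 0
  set n := (nN p q m c i).toNat with hn
  set E := (eE p q m c i).toNat with hE
  set L := (lL p q m c i).toNat with hL
  have hl0 := lL_nonneg hm hpq hc h1 h2
  have he0 := eE_pos hm hpq hc h1 h2
  have hn0 : 0 ≤ nN p q m c i := by
    rw [nN_eq hpq]; have := (tI_bounds hm hpq hc h1 h2).1; positivity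
  have hzero : ∀ d : Fin 5 →₀ ℕ, ∀ (A : ℤ), Finsupp.weight (wt5 p q m) d = 0 →
      monomial d (1 : k) ∈ W₀ := fun d _ h => isWeightedHomogeneous_monomial _ _ _ h
  let P : MvPolynomial (Fin 5) k → Prop := fun f => ∃ (a₀ : MvPolynomial (Fin 5) k) (a : ℕ → ℕ → MvPolynomial (Fin 5) k),
      a₀ ∈ W₀ ∧ (∀ e l : ℕ, a e l ∈ W₀) ∧
      f = a₀ * X 0 ^ n + ∑ e ∈ Finset.range (E + 1), ∑ l ∈ Finset.range (L + 1),
            a e l * (X 1 ^ (E - e) * X 2 ^ e * X 3 ^ (L - l) * X 4 ^ l)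
  show P f
  have hP0 : P 0 := ⟨0, fun _ _ => 0, zero_mem _, fun _ _ => zero_mem _, by simp⟩
  have hadd : ∀ f g, P f → P g → P (f + g) := by
    rintro f g ⟨a, b, ha, hb, rfl⟩ ⟨a', b', ha', hb', rfl⟩
    refine ⟨a + a', b + b', add_mem ha ha', fun e l => add_mem (hb e l) (hb' e l), ?_⟩
    simp only [Pi.add_apply, add_mul, Finset.sum_add_distrib]; abel
  have hsmul : ∀ (t : k) f, P f → P (t • f) := by
    rintro t f ⟨a, b, ha, hb, rfl⟩
    refine ⟨t • a, fun e l => t • b e l, W₀.smul_mem t ha, fun e l => W₀.smul_mem t (hb e l), ?_⟩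
    simp only [smul_add, smul_mul_assoc, Finset.smul_sum]
  rw [f.as_sum]
  refine Finset.sum_induction _ P hadd hP0 fun d hd => ?_
  have hw : Finsupp.weight (wt5 p q m) d = _ := hf (mem_support_iff.1 hd)
  rw [weight5] at hw
  simp only [Prod.mk.injEq] at hw
  obtain ⟨hw1, hw2⟩ := hw
  rw [ZMod.intCast_zmod_eq_zero_iff_dvd] at hw2
  rw [← mul_one (coeff d f), ← smul_eq_mul, ← smul_monomial]
  refine hsmul _ _ ?_
  have hmk : ∀ x : Fin 5 → ℕ, (x 0 : ℤ) - p * (x 1 + x 2) + q * (x 3 + x 4) = 0 →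
      (m : ℤ) ∣ ((x 3 : ℤ) + x 4) - (x 1 + x 2) →
      X 0 ^ x 0 * X 1 ^ x 1 * X 2 ^ x 2 * X 3 ^ x 3 * X 4 ^ x 4 ∈ W₀ := by
    intro x e1 e2
    have h := hzero (Finsupp.equivFunOnFinite.symm x) 0 (by
      rw [weight5]
      refine Prod.ext ?_ ?_
      · simpa using e1
      · simpa using (ZMod.intCast_zmod_eq_zero_iff_dvd _ m).2 e2)
    rw [monomial5] at h
    simpa using h
  by_cases han : nN p q m c i ≤ (d 0 : ℤ)
  · refine ⟨_, fun _ _ => 0, hmk ![d 0 - n, d 1, d 2, d 3, d 4] ?_ ?_, fun _ _ => zero_mem _, ?_⟩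
    · simp [Nat.cast_sub (show n ≤ d 0 by omega)]
      rw [hn, Int.toNat_of_nonneg hn0]; linarith
    · simpa using hw2
    · rw [monomial5]
      simp only [zero_mul, Finset.sum_const_zero, add_zero]
      conv_lhs => rw [show d 0 = (d 0 - n) + n by omega, pow_add]
      simp; ring
  · obtain ⟨hu, hv⟩ := gen_cases hm hpq hc h1 h2 (a := (d 0 : ℤ)) (u := (d 1 : ℤ) + d 2)
      (v := (d 3 : ℤ) + d 4) (by positivity) (by positivity) (by positivity) hw1 hw2 (lt_of_not_ge han)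
    set e₀ := min E (d 2) with he₀
    set l₀ := min L (d 4) with hl₀
    set y : Fin 5 → ℕ := ![d 0, d 1 - (E - e₀), d 2 - e₀, d 3 - (L - l₀), d 4 - l₀] with hy
    refine ⟨0, fun e l => if e = e₀ ∧ l = l₀ then
      X 0 ^ y 0 * X 1 ^ y 1 * X 2 ^ y 2 * X 3 ^ y 3 * X 4 ^ y 4 else 0, zero_mem _, fun e l => ?_, ?_⟩
    · dsimp only
      split_ifs
      · refine hmk y ?_ ?_
        · simp [hy, Nat.cast_sub (show E - e₀ ≤ d 1 by omega), Nat.cast_sub (show e₀ ≤ d 2 by omega),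
            Nat.cast_sub (show L - l₀ ≤ d 3 by omega), Nat.cast_sub (show l₀ ≤ d 4 by omega),
            Nat.cast_sub (show e₀ ≤ E by omega), Nat.cast_sub (show l₀ ≤ L by omega)]
          have : nN p q m c i = -(p : ℤ) * eE p q m c i + q * lL p q m c i := rfl
          rw [hE, hL, Int.toNat_of_nonneg hl0, Int.toNat_of_nonneg he0.le]
          linarith
        · obtain ⟨w, hw'⟩ := hw2
          refine ⟨w + hjP c i, ?_⟩
          simp [hy, Nat.cast_sub (show E - e₀ ≤ d 1 by omega), Nat.cast_sub (show e₀ ≤ d 2 by omega),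
            Nat.cast_sub (show L - l₀ ≤ d 3 by omega), Nat.cast_sub (show l₀ ≤ d 4 by omega),
            Nat.cast_sub (show e₀ ≤ E by omega), Nat.cast_sub (show l₀ ≤ L by omega)]
          rw [hE, hL, Int.toNat_of_nonneg hl0, Int.toNat_of_nonneg he0.le, eE_eq]
          linear_combination hw'
      · exact zero_mem _
    · dsimp only
      rw [zero_mul, zero_add, Finset.sum_eq_single e₀ (fun b _ hb => Finset.sum_eq_zero fun l _ => by
        rw [if_neg (fun h => hb h.1), zero_mul]) (fun h => absurd (Finset.mem_range.2 (by omega)) h),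
        Finset.sum_eq_single l₀ (fun b _ hb => by rw [if_neg (fun h => hb h.2), zero_mul])
          (fun h => absurd (Finset.mem_range.2 (by omega)) h), if_pos ⟨rfl, rfl⟩, monomial5]
      simp only [hy, Matrix.cons_val_zero, Matrix.cons_val_one]
      simp
      obtain ⟨r1, hr1⟩ : ∃ r, d 1 = r + (E - e₀) := ⟨d 1 - (E - e₀), by omega⟩
      obtain ⟨r2, hr2⟩ : ∃ r, d 2 = r + e₀ := ⟨d 2 - e₀, by omega⟩
      obtain ⟨r3, hr3⟩ : ∃ r, d 3 = r + (L - l₀) := ⟨d 3 - (L - l₀), by omega⟩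
      obtain ⟨r4, hr4⟩ : ∃ r, d 4 = r + l₀ := ⟨d 4 - l₀, by omega⟩
      rw [hr1, hr2, hr3, hr4, Nat.add_sub_cancel, Nat.add_sub_cancel, Nat.add_sub_cancel,
        Nat.add_sub_cancel, pow_add, pow_add, pow_add, pow_add]
      ring

theorem rank_piece_idealI {k : Type u} [Field k] (hpq : p < q) (hm : 0 < m) (s : k) (ν : ℤ × ZMod m) :
    Module.rank k (piece k (wt5 p q m) (idealI k p q m s) ν) ≤ 1 := by
  set I := idealI k p q m s
  set π := Ideal.Quotient.mk I
  have h2 : π (X 2) = 0 := Ideal.Quotient.eq_zero_iff_mem.2 (Ideal.subset_span (by simp))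
  have h3 : π (X 3) = 0 := Ideal.Quotient.eq_zero_iff_mem.2 (Ideal.subset_span (by simp))
  have h14 : π (X 1) * π (X 4) = π (X 0) ^ (q - p) := by
    rw [← map_pow, ← map_mul, eq_comm, Ideal.Quotient.eq]
    exact Ideal.subset_span (by simp)
  have hs : π (X 0) ^ (m * p) * π (X 1) ^ m = π (C s) := by
    rw [← map_pow, ← map_pow, ← map_mul, eq_comm, Ideal.Quotient.eq]
    exact Ideal.subset_span (by simp)
  set x := π (X 0); set y := π (X 1); set z := π (X 4); set S := π (C s)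
  have hpair : ∀ a u v a' u' v' : ℕ, (a : ℤ) - p * u + q * v = a' - p * u' + q * v' →
      (m : ℤ) ∣ ((v : ℤ) - u) - (v' - u') → (u = 0 ∨ v = 0) → (u' = 0 ∨ v' = 0) →
      (v : ℤ) - u ≤ (v' : ℤ) - u' → ∃ j : ℕ, x ^ a * y ^ u * z ^ v = S ^ j * (x ^ a' * y ^ u' * z ^ v') := by
    intro a u v a' u' v' hw hd hu hu' hx
    obtain ⟨c, hc⟩ := hd
    have hc0 : c ≤ 0 := by
      by_contra h
      have : (0 : ℤ) < m * c := mul_pos (by exact_mod_cast hm) (by omega)
      omega
    obtain ⟨j, rfl⟩ : ∃ j : ℕ, c = -(j : ℤ) := ⟨(-c).toNat, by omega⟩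
    refine ⟨j, ?_⟩
    rw [← hs, mul_pow, ← pow_mul, ← pow_mul]
    -- normal forms
    rcases Nat.eq_zero_or_pos v with hv | hv
    · subst hv
      rcases Nat.eq_zero_or_pos v' with hv' | hv'
      · subst hv'
        have hu'' : u = u' + m * j := by
          have : (u : ℤ) = u' + m * j := by push_cast at hc; linarith
          exact_mod_cast this
        have ha : a = a' + m * p * j := by
          have : (a : ℤ) = a' + m * p * j := by
            subst hu''; push_cast at hw; linarith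
          exact_mod_cast this
        rw [hu'', ha]; ring
      · obtain rfl : u' = 0 := hu'.resolve_right hv'.ne'
        have hu'' : u + v' = m * j := by
          have : (u : ℤ) + v' = m * j := by push_cast at hc; linarith
          exact_mod_cast this
        have ha : m * p * j + a' + (q - p) * v' = a := by
          have : (m : ℤ) * p * j + a' + ((q : ℤ) - p) * v' = a := by
            have : (m : ℤ) * j = u + v' := by exact_mod_cast hu''.symm
            push_cast at hw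
            linear_combination (p : ℤ) * this - hw
          rw [← Nat.cast_sub hpq.le] at this
          exact_mod_cast this
        rw [← hu'', ← ha, pow_add, pow_add, pow_mul x (q - p), ← h14, pow_zero, pow_zero, pow_add, mul_pow]
        ring
    · obtain rfl : u = 0 := hu.resolve_right hv.ne'
      obtain rfl : u' = 0 := by
        rcases hu' with h | h
        · exact h
        · subst h; push_cast at hx; omega
      have hv'' : v' = v + m * j := by
        have : (v' : ℤ) = v + m * j := by push_cast at hc; linarith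
        exact_mod_cast this
      have ha : a = a' + m * p * j + (q - p) * (m * j) := by
        have : (a : ℤ) = a' + m * p * j + ((q : ℤ) - p) * (m * j) := by
          subst hv''; push_cast at hw; linarith
        rw [← Nat.cast_sub hpq.le] at this
        exact_mod_cast this
      rw [hv'', ha, pow_add, pow_add, pow_mul x (q - p), ← h14, mul_pow, pow_zero, pow_add]
      ring
  have hnorm : ∀ d : Fin 5 →₀ ℕ, π (monomial d 1) = 0 ∨ ∃ a u v : ℕ, (u = 0 ∨ v = 0) ∧
      (d 0 : ℤ) - p * (d 1 + d 2) + q * (d 3 + d 4) = (a : ℤ) - p * u + q * v ∧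
      ((d 3 : ℤ) + d 4) - (d 1 + d 2) = (v : ℤ) - u ∧ π (monomial d 1) = x ^ a * y ^ u * z ^ v := by
    intro d
    rw [monomial5, map_mul, map_mul, map_mul, map_mul, map_pow, map_pow, map_pow, map_pow, map_pow, h2, h3]
    rcases Nat.eq_zero_or_pos (d 2) with hd2 | hd2
    swap
    · left; rw [zero_pow hd2.ne']; ring
    rcases Nat.eq_zero_or_pos (d 3) with hd3 | hd3
    swap
    · left; rw [zero_pow (n := d 3) hd3.ne']; ring
    right
    set r := min (d 1) (d 4)
    refine ⟨d 0 + (q - p) * r, d 1 - r, d 4 - r, by omega, ?_, ?_, ?_⟩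
    · push_cast [Nat.cast_sub (show r ≤ d 1 by omega), Nat.cast_sub (show r ≤ d 4 by omega),
        Nat.cast_sub hpq.le, hd2, hd3]
      ring
    · push_cast [Nat.cast_sub (show r ≤ d 1 by omega), Nat.cast_sub (show r ≤ d 4 by omega), hd2, hd3]
      ring
    · simp only [hd2, hd3, pow_zero, mul_one]
      rw [pow_add, pow_mul x (q - p), ← h14, mul_pow]
      conv_lhs => rw [show d 1 = (d 1 - r) + r by omega, show d 4 = (d 4 - r) + r by omega, pow_add, pow_add]
      ring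
  have hsj : ∀ (j : ℕ) (w : MvPolynomial (Fin 5) k ⧸ I), S ^ j * w = (s ^ j) • w := fun j w => by
    obtain ⟨f, rfl⟩ := Ideal.Quotient.mk_surjective w
    show π (C s) ^ j * π f = π ((s ^ j) • f)
    rw [smul_eq_C_mul, map_mul, map_pow, map_pow]
  refine rank_piece_le_one _ _ _ fun d d' hd hd' => ?_
  rw [weight5] at hd hd'
  have e := hd.trans hd'.symm
  simp only [Prod.mk.injEq] at e
  obtain ⟨e1, e2⟩ := e
  replace e2 := Int.ModEq.dvd ((ZMod.intCast_eq_intCast_iff _ _ m).1 e2.symm)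
  rcases hnorm d with h | ⟨a, u, v, hu, w1, w2, h⟩
  · exact ⟨0, Or.inl (by rw [zero_smul]; exact h)⟩
  rcases hnorm d' with h' | ⟨a', u', v', hu', w1', w2', h'⟩
  · exact ⟨0, Or.inr (by rw [zero_smul]; exact h')⟩
  rw [w1, w1'] at e1
  rw [w2, w2'] at e2
  rcases le_total ((v : ℤ) - u) ((v' : ℤ) - u') with hle | hle
  · obtain ⟨j, hj⟩ := hpair a u v a' u' v' e1 e2 hu hu' hle
    exact ⟨s ^ j, Or.inl (by rw [h, h', hj, hsj])⟩
  · obtain ⟨j, hj⟩ := hpair a' u' v' a u v e1.symm (by rw [← neg_sub, dvd_neg]; exact e2) hu' hu hle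
    exact ⟨s ^ j, Or.inr (by rw [h, h', hj, hsj])⟩

theorem rank_piece_idealJ {k : Type u} [Field k] (hp : 0 < p) (hpq : p < q) (hcop : Nat.Coprime p q) (hm : 0 < m)
    (s : k) (ν : ℤ × ZMod m) :
    Module.rank k (piece k (wt5 p q m) (idealJ k p q m s) ν) ≤ 1 := by
  set I := idealJ k p q m s
  set π := Ideal.Quotient.mk I
  set g := Nat.gcd m (q - p)
  set A := m / g
  have hg : 0 < g := Nat.gcd_pos_of_pos_left _ hm
  have h2 : π (X 2) = 0 := Ideal.Quotient.eq_zero_iff_mem.2 (Ideal.subset_span (by simp))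
  have h4 : π (X 4) = 0 := Ideal.Quotient.eq_zero_iff_mem.2 (Ideal.subset_span (by simp))
  have h0 : π (X 0) ^ g = 0 := by
    rw [← map_pow]; exact Ideal.Quotient.eq_zero_iff_mem.2 (Ideal.subset_span (by simp [g]))
  have hs : π (X 1) ^ (A * q) * π (X 3) ^ (A * p) = π (C s) := by
    rw [← map_pow, ← map_pow, ← map_mul, eq_comm, Ideal.Quotient.eq]
    exact Ideal.subset_span (by simp [A, g])
  set x := π (X 0); set y := π (X 1); set z := π (X 3); set S := π (C s)
  have hmon : ∀ d : Fin 5 →₀ ℕ, π (monomial d 1) = 0 ∨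
      (d 0 < g ∧ d 2 = 0 ∧ d 4 = 0 ∧ π (monomial d 1) = x ^ d 0 * y ^ d 1 * z ^ d 3) := by
    intro d
    rw [monomial5, map_mul, map_mul, map_mul, map_mul, map_pow, map_pow, map_pow, map_pow, map_pow, h2, h4]
    rcases Nat.eq_zero_or_pos (d 2) with hd2 | hd2
    swap
    · left; rw [zero_pow hd2.ne']; ring
    rcases Nat.eq_zero_or_pos (d 4) with hd4 | hd4
    swap
    · left; rw [zero_pow (n := d 4) hd4.ne']; ring
    rcases lt_or_ge (d 0) g with hd0 | hd0
    swap
    · left; rw [show d 0 = g + (d 0 - g) by omega, pow_add, h0]; ring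
    exact Or.inr ⟨hd0, hd2, hd4, by simp only [hd2, hd4, pow_zero, mul_one]; rfl⟩
  have hsj : ∀ (j : ℕ) (w : MvPolynomial (Fin 5) k ⧸ I), S ^ j * w = (s ^ j) • w := fun j w => by
    obtain ⟨f, rfl⟩ := Ideal.Quotient.mk_surjective w
    show π (C s) ^ j * π f = π ((s ^ j) • f)
    rw [smul_eq_C_mul, map_mul, map_pow, map_pow]
  have hpair : ∀ a u v a' u' v' : ℕ, a < g → a' < g → (a : ℤ) - p * u + q * v = a' - p * u' + q * v' →
      (m : ℤ) ∣ ((v : ℤ) - u) - (v' - u') →
      ∃ j : ℕ, x ^ a * y ^ u * z ^ v = S ^ j * (x ^ a' * y ^ u' * z ^ v') ∨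
        x ^ a' * y ^ u' * z ^ v' = S ^ j * (x ^ a * y ^ u * z ^ v) := by
    intro a u v a' u' v' ha ha' hw hd
    have hgm : (g : ℤ) ∣ m := Int.natCast_dvd_natCast.2 (Nat.gcd_dvd_left _ _)
    have hgq : (g : ℤ) ∣ (q : ℤ) - p := by
      rw [← Nat.cast_sub hpq.le]; exact Int.natCast_dvd_natCast.2 (Nat.gcd_dvd_right _ _)
    have hga : (g : ℤ) ∣ (a : ℤ) - a' := by
      have e : (a : ℤ) - a' = -(((q : ℤ) - p) * ((v : ℤ) - v') + p * (((v : ℤ) - u) - (v' - u'))) := by
        linarith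
      rw [e, dvd_neg]
      exact dvd_add (dvd_mul_of_dvd_left hgq _) (dvd_mul_of_dvd_right (hgm.trans hd) _)
    obtain rfl : a = a' := by
      have := Int.eq_zero_of_abs_lt_dvd hga (by rw [abs_lt]; constructor <;> omega)
      omega
    have hpu : (p : ℤ) * ((u : ℤ) - u') = q * ((v : ℤ) - v') := by linarith
    have hcop' : IsCoprime (p : ℤ) q := Int.isCoprime_iff_gcd_eq_one.2 (by simpa [Int.gcd] using hcop)
    obtain ⟨r, hr⟩ : (p : ℤ) ∣ (v : ℤ) - v' := hcop'.dvd_of_dvd_mul_left ⟨_, hpu.symm⟩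
    have hru : (u : ℤ) - u' = q * r := by
      have hp0 : (p : ℤ) ≠ 0 := by exact_mod_cast hp.ne'
      apply mul_left_cancel₀ hp0
      rw [hpu, hr]; ring
    have hAr : (A : ℤ) ∣ r := by
      have h1 : (m : ℤ) ∣ ((q : ℤ) - p) * r := by
        have e : ((v : ℤ) - u) - (v' - u') = -(((q : ℤ) - p) * r) := by linear_combination hr - hru
        rw [e, dvd_neg] at hd; exact hd
      have hm' : (m : ℤ) = g * A := by
        exact_mod_cast (Nat.mul_div_cancel' (Nat.gcd_dvd_left m (q - p))).symm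
      have hq' : ((q : ℤ) - p) = g * ((q - p) / g : ℕ) := by
        rw [← Nat.cast_mul, Nat.mul_div_cancel' (Nat.gcd_dvd_right m (q - p)), Nat.cast_sub hpq.le]
      rw [hm', hq', mul_assoc] at h1
      have h2 := (mul_dvd_mul_iff_left (show (g : ℤ) ≠ 0 by exact_mod_cast hg.ne')).1 h1
      have hAb : IsCoprime (A : ℤ) (((q - p) / g : ℕ) : ℤ) :=
        Int.isCoprime_iff_gcd_eq_one.2 (by rw [Int.gcd_natCast_natCast]; exact Nat.coprime_div_gcd_div_gcd hg)
      exact hAb.dvd_of_dvd_mul_left h2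
    obtain ⟨t, rfl⟩ := hAr
    rcases le_total 0 t with ht | ht
    · obtain ⟨j, rfl⟩ := Int.eq_ofNat_of_zero_le ht
      refine ⟨j, Or.inl ?_⟩
      have e1 : u = A * q * j + u' := by zify; linarith
      have e2 : v = A * p * j + v' := by zify; linarith
      rw [e1, e2, ← hs, mul_pow, ← pow_mul, ← pow_mul, pow_add, pow_add]; ring
    · obtain ⟨j, hj⟩ := Int.eq_ofNat_of_zero_le (neg_nonneg.2 ht)
      obtain rfl : t = -(j : ℤ) := by omega
      refine ⟨j, Or.inr ?_⟩
      have e1 : u' = A * q * j + u := by zify; linarith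
      have e2 : v' = A * p * j + v := by zify; linarith
      rw [e1, e2, ← hs, mul_pow, ← pow_mul, ← pow_mul, pow_add, pow_add]; ring
  refine rank_piece_le_one _ _ _ fun d d' hd hd' => ?_
  rw [weight5] at hd hd'
  have e := hd.trans hd'.symm
  simp only [Prod.mk.injEq] at e
  obtain ⟨e1, e2⟩ := e
  replace e2 := Int.ModEq.dvd ((ZMod.intCast_eq_intCast_iff _ _ m).1 e2.symm)
  rcases hmon d with h | ⟨hd0, hd2, hd4, h⟩
  · exact ⟨0, Or.inl (by rw [zero_smul]; exact h)⟩
  rcases hmon d' with h' | ⟨hd0', hd2', hd4', h'⟩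
  · exact ⟨0, Or.inr (by rw [zero_smul]; exact h')⟩
  simp only [hd2, hd4, hd2', hd4', Nat.cast_zero, add_zero] at e1 e2
  obtain ⟨j, hj | hj⟩ := hpair _ _ _ _ _ _ hd0 hd0' e1 e2
  · exact ⟨s ^ j, Or.inl (by rw [h, h', hj, hsj])⟩
  · exact ⟨s ^ j, Or.inr (by rw [h, h', hj, hsj])⟩

end Groth.Agent.InvHilb
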